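import Mathlib

/-!
# Involutions of alternating groups are commutators in 2-subgroups of their centralisers

`exists_twoGroup`: for `6 ≤ m` every involution `z` of `A_m` lies in `⁅Q, Q⁆` for a 2-subgroup `Q` of
its centraliser.
-/

set_option autoImplicit false

namespace Cfsg.Agent.CentTwoAlt

open Equiv Equiv.Perm
open scoped commutatorElement

/-- The double transposition on a block of four points. -/
def blk : Perm (Fin 4) := swap 0 1 * swap 2 3

def pA : Perm (Fin 4) := swap 0 1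
def pB : Perm (Fin 4) := swap 0 2 * swap 1 3
def pR : Perm (Fin 4) := pA * pB

set_option maxRecDepth 20000 in
theorem blk_facts :
    blk * blk = 1 ∧ (∀ x, blk x ≠ x) ∧
    (∀ x : Perm (Fin 4), x * blk = blk * x → x ^ 4 = 1) ∧
    pA * blk = blk * pA ∧ pB * blk = blk * pB ∧ pR * blk = blk * pR ∧
    pA * pB * pA⁻¹ * pB⁻¹ = blk ∧ pA * pR * pA⁻¹ * pR⁻¹ = blk ∧ pB * pR * pB⁻¹ * pR⁻¹ = blk := by
  decide

theorem sign_p : sign pA = -1 ∧ sign pB = 1 ∧ sign pR = -1 := by decide

variable {b r : ℕ}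

/-- Permutations acting blockwise. -/
def blockHom (b r : ℕ) :
    (Fin b → Perm (Fin 4)) × Perm (Fin r) →* Perm ((Fin b × Fin 4) ⊕ Fin r) where
  toFun p := Equiv.sumCongr (Equiv.prodCongrRight p.1) p.2
  map_one' := by ext x; rcases x with ⟨i, x⟩ | x <;> simp
  map_mul' p q := by ext x; rcases x with ⟨i, x⟩ | x <;> simp

theorem sign_blockHom (p : (Fin b → Perm (Fin 4)) × Perm (Fin r)) :
    sign (blockHom b r p) = (∏ i, sign (p.1 i)) * sign p.2 := by
  show sign (Equiv.sumCongr (Equiv.prodCongrRight p.1) p.2) = _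
  rw [Perm.sign_sumCongr, Perm.sign_prodCongrRight]

/-- The blockwise double transposition. -/
def model (b r : ℕ) : Perm ((Fin b × Fin 4) ⊕ Fin r) := blockHom b r (fun _ => blk, 1)

theorem model_of_choice (f g : Fin b → Perm (Fin 4)) (e : Perm (Fin r)) (he : e * e = 1)
    (hf : ∀ i, f i * blk = blk * f i) (hg : ∀ i, g i * blk = blk * g i)
    (hc : ∀ i, f i * g i * (f i)⁻¹ * (g i)⁻¹ = blk)
    (hsf : (∏ i, sign (f i)) * sign e = 1) (hsg : (∏ i, sign (g i)) = 1) :
    ∃ (Q : Subgroup (Perm ((Fin b × Fin 4) ⊕ Fin r))) (x y : Perm ((Fin b × Fin 4) ⊕ Fin r)),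
      IsPGroup 2 Q ∧ (∀ q ∈ Q, q * model b r = model b r * q) ∧ x ∈ Q ∧ y ∈ Q ∧
      sign x = 1 ∧ sign y = 1 ∧ x * y * x⁻¹ * y⁻¹ = model b r := by
  let H : Subgroup ((Fin b → Perm (Fin 4)) × Perm (Fin r)) :=
    (Subgroup.pi Set.univ fun _ => Subgroup.centralizer ({blk} : Set (Perm (Fin 4)))).prod
      (Subgroup.zpowers e)
  have hH : ∀ p ∈ H, (∀ i, p.1 i * blk = blk * p.1 i) ∧ p.2 ∈ Subgroup.zpowers e := fun p hp => by
    obtain ⟨h1, h2⟩ := Subgroup.mem_prod.1 hp
    exact ⟨fun i => Subgroup.mem_centralizer_singleton_iff.1 (h1 i (Set.mem_univ i)), h2⟩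
  have hHm : ∀ (u : Fin b → Perm (Fin 4)) (v : Perm (Fin r)), (∀ i, u i * blk = blk * u i) →
      v ∈ Subgroup.zpowers e → (u, v) ∈ H := fun u v hu hv =>
    Subgroup.mem_prod.2 ⟨fun i _ => Subgroup.mem_centralizer_singleton_iff.2 (hu i), hv⟩
  have hpH : IsPGroup 2 H := fun p => ⟨2, by
    obtain ⟨h1, h2⟩ := hH p p.2
    obtain ⟨k, hk⟩ := Subgroup.mem_zpowers_iff.1 h2
    refine Subtype.ext (Prod.ext (funext fun i => ?_) ?_)
    · simpa using blk_facts.2.2.1 _ (h1 i)
    · show (p : (Fin b → Perm (Fin 4)) × Perm (Fin r)).2 ^ (2 ^ 2) = 1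
      rw [← hk, ← zpow_natCast, ← zpow_mul, mul_comm, zpow_mul]
      have : e ^ ((2 ^ 2 : ℕ) : ℤ) = 1 := by
        rw [zpow_natCast, show (2 ^ 2 : ℕ) = 2 * 2 by norm_num, pow_mul, pow_two e, he, one_pow]
      rw [this, one_zpow]⟩
  refine ⟨H.map (blockHom b r), blockHom b r (f, e), blockHom b r (g, 1), hpH.map _, ?_,
    ⟨_, hHm f e hf (Subgroup.mem_zpowers e), rfl⟩, ⟨_, hHm g 1 hg (one_mem _), rfl⟩, ?_, ?_, ?_⟩
  · rintro _ ⟨p, hp, rfl⟩
    rw [model, ← map_mul, ← map_mul]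
    congr 1
    exact Prod.ext (funext fun i => (hH p hp).1 i) (by simp)
  · rw [sign_blockHom]; exact hsf
  · rw [sign_blockHom, map_one, mul_one]; exact hsg
  · rw [model, ← map_inv, ← map_inv, ← map_mul, ← map_mul, ← map_mul]
    congr 1
    exact Prod.ext (funext fun i => hc i) (by simp)

theorem model_twoGroup (hb : 1 ≤ b) (h6 : 6 ≤ 4 * b + r) :
    ∃ (Q : Subgroup (Perm ((Fin b × Fin 4) ⊕ Fin r))) (x y : Perm ((Fin b × Fin 4) ⊕ Fin r)),
      IsPGroup 2 Q ∧ (∀ q ∈ Q, q * model b r = model b r * q) ∧ x ∈ Q ∧ y ∈ Q ∧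
      sign x = 1 ∧ sign y = 1 ∧ x * y * x⁻¹ * y⁻¹ = model b r := by
  obtain ⟨-, -, -, hA, hB, hR, hAB, hAR, hBR⟩ := blk_facts
  obtain ⟨sA, sB, sR⟩ := sign_p
  rcases Nat.even_or_odd b with ⟨c, rfl⟩ | ⟨c, rfl⟩
  · refine model_of_choice (fun _ => pA) (fun _ => pB) 1 (one_mul 1) (fun _ => hA) (fun _ => hB)
      (fun _ => hAB) ?_ ?_
    · simp [sA, ← two_mul, pow_mul]
    · simp [sB]
  rcases c with _ | c
  · obtain ⟨r, rfl⟩ : ∃ r', r = r' + 2 := ⟨r - 2, by omega⟩
    refine model_of_choice (fun _ => pA) (fun _ => pB) (swap 0 1) (swap_mul_self _ _) (fun _ => hA)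
      (fun _ => hB) (fun _ => hAB) ?_ ?_
    · rw [sign_swap (by simp)]; simp [sA]
    · simp [sB]
  clear hb
  revert h6
  rw [show 2 * (c + 1) + 1 = 2 * c + 1 + 1 + 1 by ring]
  intro h6
  refine model_of_choice
    (fun i => if (i : ℕ) = 0 then pA else if (i : ℕ) = 1 then pA else if (i : ℕ) = 2 then pB else pA)
    (fun i => if (i : ℕ) = 0 then pB else if (i : ℕ) = 1 then pR else if (i : ℕ) = 2 then pR else pB)
    1 (one_mul 1) ?_ ?_ ?_ ?_ ?_
  · intro i
    rcases (show (i : ℕ) = 0 ∨ (i : ℕ) = 1 ∨ (i : ℕ) = 2 ∨ 3 ≤ (i : ℕ) by omega) with h | h | h | h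
    · simp only [h, if_true]; exact hA
    · simp only [h, one_ne_zero, if_false, if_true]; exact hA
    · simp only [h, OfNat.ofNat_ne_zero, OfNat.ofNat_ne_one, if_false, if_true]; exact hB
    · simp only [show (i : ℕ) ≠ 0 by omega, show (i : ℕ) ≠ 1 by omega, show (i : ℕ) ≠ 2 by omega, if_false]
      exact hA
  · intro i
    rcases (show (i : ℕ) = 0 ∨ (i : ℕ) = 1 ∨ (i : ℕ) = 2 ∨ 3 ≤ (i : ℕ) by omega) with h | h | h | h
    · simp only [h, if_true]; exact hB
    · simp only [h, one_ne_zero, if_false, if_true]; exact hR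
    · simp only [h, OfNat.ofNat_ne_zero, OfNat.ofNat_ne_one, if_false, if_true]; exact hR
    · simp only [show (i : ℕ) ≠ 0 by omega, show (i : ℕ) ≠ 1 by omega, show (i : ℕ) ≠ 2 by omega, if_false]
      exact hB
  · intro i
    rcases (show (i : ℕ) = 0 ∨ (i : ℕ) = 1 ∨ (i : ℕ) = 2 ∨ 3 ≤ (i : ℕ) by omega) with h | h | h | h
    · simp only [h, if_true]; exact hAB
    · simp only [h, one_ne_zero, if_false, if_true]; exact hAR
    · simp only [h, OfNat.ofNat_ne_zero, OfNat.ofNat_ne_one, if_false, if_true]; exact hBR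
    · simp only [show (i : ℕ) ≠ 0 by omega, show (i : ℕ) ≠ 1 by omega, show (i : ℕ) ≠ 2 by omega, if_false]
      exact hAB
  · rw [Fin.prod_univ_succ, Fin.prod_univ_succ, Fin.prod_univ_succ]
    simp [sA, sB, pow_succ, pow_mul, Nat.mod_eq_of_lt (show 2 < 2 * c + 1 + 1 + 1 by omega)]
  · rw [Fin.prod_univ_succ, Fin.prod_univ_succ, Fin.prod_univ_succ]
    simp [sR, sB, Nat.mod_eq_of_lt (show 2 < 2 * c + 1 + 1 + 1 by omega)]

theorem card_support_of_fixed {X : Type*} [Fintype X] [DecidableEq X] (σ : Perm X) :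
    σ.support.card + Fintype.card {x // σ x = x} = Fintype.card X := by
  rw [Fintype.card_subtype, ← Finset.card_univ, Perm.support, add_comm]
  exact Finset.card_filter_add_card_filter_not (s := (Finset.univ : Finset X)) (fun x => σ x = x)

theorem cycleType_involution {m : ℕ} (z : Perm (Fin m)) (hz : orderOf z = 2) :
    z.cycleType = Multiset.replicate (z.support.card / 2) 2 := by
  obtain ⟨n, hn⟩ := cycleType_prime_order (hz.symm ▸ Nat.prime_two : (orderOf z).Prime)
  rw [hz] at hn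
  have := sum_cycleType z
  rw [hn, Multiset.sum_replicate, smul_eq_mul] at this
  rw [hn]
  congr 1
  omega

/-- For `6 ≤ m` an involution of `A_m` is a commutator inside a 2-subgroup of its centraliser. -/
theorem exists_twoGroup {m : ℕ} (hm : 6 ≤ m) (z : alternatingGroup (Fin m)) (hz : orderOf z = 2) :
    ∃ Q : Subgroup (alternatingGroup (Fin m)), IsPGroup 2 Q ∧ (∀ q ∈ Q, q * z = z * q) ∧
      z ∈ ⁅Q, Q⁆ := by
  have hz' : orderOf (z : Perm (Fin m)) = 2 := (Subgroup.orderOf_coe z).trans hz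
  have hct := cycleType_involution _ hz'
  have hsum := sum_cycleType (z : Perm (Fin m))
  rw [hct, Multiset.sum_replicate, smul_eq_mul] at hsum
  have hsg := sign_of_cycleType (z : Perm (Fin m))
  rw [mem_alternatingGroup.1 z.2, hct, Multiset.sum_replicate, Multiset.card_replicate, smul_eq_mul] at hsg
  obtain ⟨b, hb⟩ : Even ((z : Perm (Fin m)).support.card / 2) := by
    have : Even ((z : Perm (Fin m)).support.card / 2 * 2 + (z : Perm (Fin m)).support.card / 2) := by
      by_contra h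
      rw [(Nat.not_even_iff_odd.1 h).neg_one_pow] at hsg
      exact absurd hsg.symm (by decide)
    rw [Nat.even_add] at this
    exact this.1 ⟨_, mul_two _⟩
  have hle : (z : Perm (Fin m)).support.card ≤ m := by simpa using Finset.card_le_univ (z : Perm (Fin m)).support
  have hb1 : 1 ≤ b := by
    by_contra h
    have h0 : (z : Perm (Fin m)).support.card = 0 := by omega
    rw [Finset.card_eq_zero, support_eq_empty_iff] at h0
    rw [h0, orderOf_one] at hz'
    omega
  obtain ⟨r, hr⟩ : ∃ r, m = 4 * b + r := ⟨m - 4 * b, by omega⟩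
  let ε : (Fin b × Fin 4) ⊕ Fin r ≃ Fin m :=
    Fintype.equivFinOfCardEq (α := (Fin b × Fin 4) ⊕ Fin r) (by simp; omega)
  obtain ⟨Q, x, y, hQ, hcomm, hx, hy, hsx, hsy, hxy⟩ := model_twoGroup (r := r) hb1 (by omega)
  let Φ : Perm ((Fin b × Fin 4) ⊕ Fin r) →* Perm (Fin m) := ε.permCongrHom.toMonoidHom
  have hΦs : ∀ p, sign (Φ p) = sign p := fun p => sign_permCongr ε p
  have hfixed : Fintype.card {a // Φ (model b r) a = a} = r := by
    have h1 : {a // Φ (model b r) a = a} ≃ {a : (Fin b × Fin 4) ⊕ Fin r // model b r a = a} :=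
      (ε.subtypeEquiv fun a => by simp [Φ, Equiv.permCongrHom, Equiv.permCongr_apply]).symm
    rw [Fintype.card_congr h1]
    refine (Fintype.card_congr (Equiv.ofBijective (fun i : Fin r => (⟨Sum.inr i, by simp [model, blockHom]⟩ :
      {a // model b r a = a})) ⟨?_, ?_⟩)).symm.trans (Fintype.card_fin r)
    · intro i j h
      simpa using h
    · rintro ⟨⟨i, a⟩ | a, ha⟩
      · simp [model, blockHom, blk_facts.2.1] at ha
      · exact ⟨a, rfl⟩
  have hcard : (Φ (model b r)).support.card = (z : Perm (Fin m)).support.card := by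
    have := card_support_of_fixed (Φ (model b r))
    rw [hfixed, Fintype.card_fin] at this
    omega
  have hsq : (Φ (model b r)) ^ 2 = 1 := by
    rw [← map_pow, pow_two, model, ← map_mul, Prod.mk_mul_mk, one_mul,
      show ((fun _ => blk) * fun _ => blk : Fin b → Perm (Fin 4)) = 1 from funext fun _ => blk_facts.1]
    exact (congrArg Φ (map_one _)).trans (map_one Φ)
  have hord : orderOf (Φ (model b r)) = 2 := orderOf_eq_prime hsq fun h => by
    rw [h, support_one, Finset.card_empty] at hcard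
    omega
  obtain ⟨c, hc⟩ := isConj_iff.1 ((isConj_iff_cycleType_eq (σ := Φ (model b r)) (τ := (z : Perm (Fin m)))).2
    (by rw [cycleType_involution _ hord, hct, hcard]))
  let Ψ : Perm ((Fin b × Fin 4) ⊕ Fin r) →* Perm (Fin m) := (MulAut.conj c).toMonoidHom.comp Φ
  have hΨ : Ψ (model b r) = z := hc
  have hΨs : ∀ p, sign (Ψ p) = sign p := fun p => by
    show sign (c * Φ p * c⁻¹) = _
    rw [map_mul, map_mul, map_inv, mul_comm (sign c), mul_inv_cancel_right, hΦs]
  refine ⟨(Q.map Ψ).comap (alternatingGroup (Fin m)).subtype,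
    (hQ.map Ψ).comap_of_injective _ Subtype.val_injective, ?_, ?_⟩
  · rintro q ⟨q₀, hq₀, hq⟩
    refine Subtype.ext ?_
    show (q : Perm (Fin m)) * z = z * q
    have hq' : (q : Perm (Fin m)) = Ψ q₀ := hq.symm
    rw [← hΨ, hq', ← map_mul, ← map_mul, hcomm q₀ hq₀]
  · let X : alternatingGroup (Fin m) := ⟨Ψ x, mem_alternatingGroup.2 ((hΨs x).trans hsx)⟩
    let Y : alternatingGroup (Fin m) := ⟨Ψ y, mem_alternatingGroup.2 ((hΨs y).trans hsy)⟩
    have he : ⁅X, Y⁆ = z := Subtype.ext (by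
      rw [← hΨ, ← hxy, map_mul, map_mul, map_mul, map_inv, map_inv]
      rfl)
    exact he ▸ Subgroup.commutator_mem_commutator ⟨x, hx, rfl⟩ ⟨y, hy, rfl⟩

end Cfsg.Agent.CentTwoAlt
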