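import Cfsg.Agent.Lib.CentTwoAlt.Transfer
import Cfsg.Agent.Lib.CentTwoAlt.Alt
import Cfsg.Agent.Lib.Involution.IndexTwo
import Cfsg.Prelude.Def_TwoFusion
import Cfsg.Prelude.Def_SporadicB

/-!
# A 2-central involution whose centraliser is `⟨J⟩ × T`

* `Data.exists_conj_mem` : without subgroups of index 2, every central involution of `S` outside `T`
  has an `N(S)`-conjugate inside `T`
* `Data.degree_le_five`, `Data.four_le_degree` : with `T ≅ A_m` this leaves `m = 4, 5`
* `Data.conj_v` : for `m = 4, 5` there is a single class of involutions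
-/

set_option autoImplicit false

namespace Cfsg.Agent.CentTwoAlt

open Subgroup

/-- `C(J) = ⟨J⟩ × T`. -/
structure Data {G : Type*} [Group G] (J : G) (T : Subgroup G) : Prop where
  ord : orderOf J = 2
  comm : ∀ x ∈ T, x * J = J * x
  nmem : J ∉ T
  cover : ∀ x : G, x * J = J * x → x ∈ T ∨ J * x ∈ T

variable {G : Type*} [Group G] {J : G} {T : Subgroup G}

theorem data_of_direct (hJ : orderOf J = 2)
    (hd : Cfsg.IsInternalDirectProduct (zpowers J) T (centralizer ({J} : Set G))) : Data J T := by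
  obtain ⟨-, hTC, hcomm, hinf, hsup⟩ := hd
  refine ⟨hJ, fun x hx => mem_centralizer_singleton_iff.1 (hTC hx), fun h => ?_, fun x hx => ?_⟩
  · have : J ∈ zpowers J ⊓ T := ⟨mem_zpowers J, h⟩
    rw [hinf, mem_bot] at this
    simp [this] at hJ
  · have hxC : x ∈ zpowers J ⊔ T := hsup.symm ▸ mem_centralizer_singleton_iff.2 hx
    have hle : zpowers J ≤ normalizer (T : Set G) := fun a ha => mem_normalizer_iff.2 fun y => by
      constructor
      · intro hy
        rw [hcomm a ha y hy, mul_inv_cancel_right]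
        exact hy
      · intro hy
        have h1 := hcomm a ha _ hy
        have h2 : a * y * a⁻¹ = y := by
          have : a * y * a⁻¹ = a⁻¹ * (a * (a * y * a⁻¹)) := by group
          rw [this, h1]; group
        rwa [h2] at hy
    rw [← SetLike.mem_coe, coe_mul_of_left_le_normalizer_right (zpowers J) T hle] at hxC
    obtain ⟨a, ha, t, ht, rfl⟩ := hxC
    obtain ⟨k, rfl⟩ := mem_zpowers_iff.1 ha
    have hJJ : J * J = 1 := by rw [← pow_two, ← hJ, pow_orderOf_eq_one]
    rcases Int.even_or_odd k with ⟨l, rfl⟩ | ⟨l, rfl⟩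
    · left
      have : J ^ (l + l) = 1 := by rw [zpow_add, ← (Commute.refl J).mul_zpow, hJJ, one_zpow]
      simpa [this] using ht
    · right
      have : J ^ (2 * l + 1) = J := by rw [zpow_add, zpow_mul, zpow_two, hJJ, one_zpow, one_mul, zpow_one]
      rw [show (fun a b => a * b) (J ^ (2 * l + 1)) t = J ^ (2 * l + 1) * t from rfl, this, ← mul_assoc, hJJ,
        one_mul]
      exact ht

namespace Data

variable (d : Data J T)
include d

theorem mul_self : J * J = 1 := by rw [← pow_two, ← d.ord, pow_orderOf_eq_one]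

theorem centralizer_comm {x : G} (hx : x ∈ centralizer ({J} : Set G)) : x * J = J * x :=
  mem_centralizer_singleton_iff.1 hx

open Classical in
/-- The projection of `C(J)` onto `⟨J⟩`. -/
noncomputable def proj : centralizer ({J} : Set G) →* Multiplicative (ZMod 2) where
  toFun x := if (x : G) ∈ T then 1 else Multiplicative.ofAdd 1
  map_one' := if_pos T.one_mem
  map_mul' a b := by
    have ha := d.centralizer_comm a.2
    have hb := d.centralizer_comm b.2
    show (if ((a : G) * b) ∈ T then _ else _) = (if (a : G) ∈ T then _ else _) * (if (b : G) ∈ T then _ else _)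
    by_cases h1 : (a : G) ∈ T <;> by_cases h2 : (b : G) ∈ T
    · simp [h1, h2, T.mul_mem h1 h2]
    · simp [h1, h2, T.mul_mem_cancel_left h1]
    · simp [h1, h2, T.mul_mem_cancel_right h2]
    · have h3 : (a : G) * b ∈ T := by
        have := T.mul_mem ((d.cover _ ha).resolve_left h1) ((d.cover _ hb).resolve_left h2)
        rwa [mul_assoc, ← mul_assoc (a : G), ha, mul_assoc J, ← mul_assoc J, d.mul_self, one_mul] at this
      simp only [h1, h2, h3, if_true, if_false]
      decide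

open Classical in
theorem proj_eq_one {x : centralizer ({J} : Set G)} : d.proj x = 1 ↔ (x : G) ∈ T := by
  show (if (x : G) ∈ T then (1 : Multiplicative (ZMod 2)) else Multiplicative.ofAdd 1) = 1 ↔ _
  split_ifs with h <;> simp [h]

variable [Finite G]

/-- Without subgroups of index 2, a central involution of `S` outside `T` is fused into `T`. -/
theorem exists_conj_mem (hi : ∀ H : Subgroup G, H.index ≠ 2) (S : Sylow 2 G)
    (hSJ : ∀ x ∈ (S : Subgroup G), x * J = J * x) {z : G} (hzS : z ∈ (S : Subgroup G)) (hz : z * z = 1)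
    (hzc : ∀ x ∈ (S : Subgroup G), x * z = z * x) (hzT : z ∉ T) :
    ∃ g ∈ normalizer ((S : Subgroup G) : Set G), g⁻¹ * z * g ∈ (S : Subgroup G) ∧ g⁻¹ * z * g ∈ T := by
  by_contra! hcon
  let ψ : (S : Subgroup G) →* Multiplicative (ZMod 2) :=
    d.proj.comp (Subgroup.inclusion fun x hx => mem_centralizer_singleton_iff.2 (hSJ x hx))
  have hψ : ∀ w : (S : Subgroup G), (w : G) ∉ T → ψ w = Multiplicative.ofAdd 1 := fun w hw => if_neg hw
  have hz' : ψ ⟨z, hzS⟩ ≠ 1 := by rw [hψ ⟨z, hzS⟩ hzT]; decide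
  obtain ⟨K, hK⟩ := exists_index_two (IsPGroup.of_card (n := 1) (by simp)) S ψ ⟨z, hzS⟩
    (Subtype.ext (by rw [pow_two]; exact hz))
    (mem_center_iff.2 fun x => Subtype.ext (hzc x x.2)) hz'
    (fun g hg h => by rw [hψ _ (hcon g hg h), hψ ⟨z, hzS⟩ hzT])
  exact hi K hK

theorem commutator_le (S : Sylow 2 G) (hSJ : ∀ x ∈ (S : Subgroup G), x * J = J * x) :
    ⁅(S : Subgroup G), (S : Subgroup G)⁆ ≤ T := by
  rw [Subgroup.commutator_le]
  intro a ha b hb
  have haC : a ∈ centralizer ({J} : Set G) := mem_centralizer_singleton_iff.2 (hSJ a ha)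
  have hbC : b ∈ centralizer ({J} : Set G) := mem_centralizer_singleton_iff.2 (hSJ b hb)
  have : d.proj (⟨a, haC⟩ * ⟨b, hbC⟩ * ⟨a, haC⟩⁻¹ * ⟨b, hbC⟩⁻¹) = 1 := by
    rw [map_mul, map_mul, map_mul, map_inv, map_inv, mul_right_comm _ (d.proj ⟨b, hbC⟩), mul_inv_cancel,
      one_mul, mul_inv_cancel]
  exact d.proj_eq_one.1 this

theorem degree_le_five (hi : ∀ H : Subgroup G, H.index ≠ 2) (S : Sylow 2 G) (hJS : J ∈ (S : Subgroup G))
    (hSJ : ∀ x ∈ (S : Subgroup G), x * J = J * x) {m : ℕ} (e : T ≃* alternatingGroup (Fin m)) : m ≤ 5 := by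
  by_contra hm
  haveI : Fact (Nat.Prime 2) := ⟨Nat.prime_two⟩
  obtain ⟨g, hg, hgS, hgT⟩ := d.exists_conj_mem hi S hSJ hJS d.mul_self hSJ d.nmem
  set x := g⁻¹ * J * g with hxdef
  have hxord : orderOf x = 2 := by
    have : x = MulAut.conj g⁻¹ J := by simp [hxdef, mul_assoc]
    rw [this, MulEquiv.orderOf_eq, d.ord]
  have hxc : ∀ s ∈ (S : Subgroup G), s * x = x * s := fun s hs => by
    have h1 : g * s * g⁻¹ ∈ (S : Subgroup G) := (mem_normalizer_iff.1 hg s).1 hs
    have h2 := hSJ _ h1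
    calc s * x = g⁻¹ * ((g * s * g⁻¹) * J) * g := by rw [hxdef]; group
      _ = g⁻¹ * (J * (g * s * g⁻¹)) * g := by rw [h2]
      _ = x * s := by rw [hxdef]; group
  obtain ⟨Q, hQ, hQc, hzQ⟩ := exists_twoGroup (by omega : 6 ≤ m) (e ⟨x, hgT⟩)
    (by rw [MulEquiv.orderOf_eq, Subgroup.orderOf_mk, hxord])
  set φ : alternatingGroup (Fin m) →* G := T.subtype.comp e.symm.toMonoidHom with hφ
  have hφx : φ (e ⟨x, hgT⟩) = x := by simp [hφ]
  have hxQ : x ∈ ⁅Q.map φ, Q.map φ⁆ := by
    rw [← map_commutator]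
    exact ⟨_, hzQ, hφx⟩
  set D := centralizer ({x} : Set G)
  have hQD : Q.map φ ≤ D := by
    rintro _ ⟨q, hq, rfl⟩
    refine mem_centralizer_singleton_iff.2 ?_
    rw [← hφx, ← map_mul, ← map_mul, hQc q hq]
  have hSD : (S : Subgroup G) ≤ D := fun s hs => mem_centralizer_singleton_iff.2 (hxc s hs)
  obtain ⟨R, hR⟩ := ((hQ.map φ).comap_of_injective D.subtype D.subtype_injective).exists_le_sylow
  obtain ⟨c, hc⟩ := MulAction.exists_smul_eq D (S.subtype hSD) R
  have hQS : Q.map φ ≤ (S : Subgroup G).map (MulAut.conj (c : G)).toMonoidHom := fun q hq => by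
    have : (⟨q, hQD hq⟩ : D) ∈ (R : Subgroup D) := hR hq
    rw [← hc, Sylow.coe_subgroup_smul, mem_pointwise_smul_iff_inv_smul_mem, Sylow.coe_subtype,
      mem_subgroupOf] at this
    exact ⟨(c : G)⁻¹ * q * c, SetLike.mem_coe.2 (by simpa using this), by simp [mul_assoc]⟩
  have hxS : x ∈ ⁅(S : Subgroup G), (S : Subgroup G)⁆ := by
    have h1 := Subgroup.commutator_mono hQS hQS hxQ
    rw [← map_commutator] at h1
    obtain ⟨y, hy, hyx⟩ := h1
    have hcx : (c : G) * x = x * c := mem_centralizer_singleton_iff.1 c.2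
    have : y = x := by
      have h2 : (c : G) * y * (c : G)⁻¹ = x := by simpa using hyx
      calc y = (c : G)⁻¹ * ((c : G) * y * (c : G)⁻¹) * c := by group
        _ = (c : G)⁻¹ * (x * c) := by rw [h2, mul_assoc]
        _ = x := by rw [← hcx, inv_mul_cancel_left]
    exact this ▸ hy
  have hle : ⁅(S : Subgroup G), (S : Subgroup G)⁆.map (MulAut.conj g).toMonoidHom ≤
      ⁅(S : Subgroup G), (S : Subgroup G)⁆ := by
    rw [map_commutator]
    refine Subgroup.commutator_mono ?_ ?_ <;>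
    · rintro _ ⟨s, hs, rfl⟩
      simpa using (mem_normalizer_iff.1 hg s).1 hs
  refine d.nmem (d.commutator_le S hSJ (hle ⟨x, hxS, ?_⟩))
  simp [hxdef, mul_assoc]

theorem proj_sylow_injective (S : Sylow 2 G) (hSJ : ∀ x ∈ (S : Subgroup G), x * J = J * x)
    (hT : Odd (Nat.card T)) : IsCyclic (S : Subgroup G) := by
  haveI : Fact (Nat.Prime 2) := ⟨Nat.prime_two⟩
  let ψ : (S : Subgroup G) →* Multiplicative (ZMod 2) :=
    d.proj.comp (Subgroup.inclusion fun x hx => mem_centralizer_singleton_iff.2 (hSJ x hx))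
  refine isCyclic_of_injective ψ ((MonoidHom.ker_eq_bot_iff ψ).1 (eq_bot_iff.2 fun s hs => ?_))
  have hsT : (s : G) ∈ T := d.proj_eq_one.1 hs
  obtain ⟨k, hk⟩ := S.isPGroup' s
  have h1 : orderOf (s : G) ∣ 2 ^ k := orderOf_dvd_of_pow_eq_one (by simpa using congrArg Subtype.val hk)
  have h2 : Odd (orderOf (s : G)) := hT.of_dvd_nat (Subgroup.orderOf_dvd_natCard T hsT)
  have h3 : orderOf (s : G) = 1 := ((Nat.coprime_two_right.2 h2).pow_right k).eq_one_of_dvd h1
  exact mem_bot.2 (Subtype.ext (orderOf_eq_one_iff.1 h3))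

theorem four_le_degree (hi : ∀ H : Subgroup G, H.index ≠ 2) (S : Sylow 2 G) (hJS : J ∈ (S : Subgroup G))
    (hSJ : ∀ x ∈ (S : Subgroup G), x * J = J * x) {m : ℕ} (e : T ≃* alternatingGroup (Fin m)) : 4 ≤ m := by
  by_contra hm
  have hodd : Odd (Nat.card T) := by
    rw [Nat.card_congr e.toEquiv]
    rcases (show m = 0 ∨ m = 1 ∨ m = 2 ∨ m = 3 by omega) with rfl | rfl | rfl | rfl <;>
      rw [Nat.card_eq_fintype_card] <;> decide
  have heven : Even (Nat.card G) := by
    rw [even_iff_two_dvd, ← d.ord]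
    exact orderOf_dvd_natCard J
  obtain ⟨H, hH⟩ := Involution.exists_index_two heven S (d.proj_sylow_injective S hSJ hodd)
  exact hi H hH

end Data

/-- The facts about `A_4`, `A_5` that are used. -/
structure Small (X : Type*) [Group X] : Prop where
  thirty : ∀ y : X, y ^ 30 = 1
  conj : ∀ a b : X, a * a = 1 → a ≠ 1 → b * b = 1 → b ≠ 1 → ∃ c : X, c * a * c⁻¹ = b
  odd : ∀ y : X, y * y ≠ 1 → ∃ c : X, (y * (c * (y * y) * c⁻¹)) * (y * (c * (y * y) * c⁻¹)) = 1 ∧ y * (c * (y * y) * c⁻¹) ≠ 1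

set_option maxRecDepth 30000 in
set_option maxHeartbeats 2000000 in
theorem small_four : Small (alternatingGroup (Fin 4)) := ⟨by decide +kernel, by decide +kernel, by decide +kernel⟩

set_option maxRecDepth 30000 in
set_option maxHeartbeats 4000000 in
theorem small_five : Small (alternatingGroup (Fin 5)) := ⟨by decide +kernel, by decide +kernel, by decide +kernel⟩

theorem Small.of_equiv {X Y : Type*} [Group X] [Group Y] (e : X ≃* Y) (h : Small Y) : Small X := by
  refine ⟨fun y => e.injective (by rw [map_pow, h.thirty, map_one]), fun a b ha ha1 hb hb1 => ?_, fun y hy => ?_⟩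
  · obtain ⟨c, hc⟩ := h.conj (e a) (e b) (by rw [← map_mul, ha, map_one])
      (fun h => ha1 (e.injective (h.trans (map_one e).symm))) (by rw [← map_mul, hb, map_one])
      (fun h => hb1 (e.injective (h.trans (map_one e).symm)))
    exact ⟨e.symm c, e.injective (by simpa using hc)⟩
  · obtain ⟨c, h1, h2⟩ := h.odd (e y) (fun h => hy (e.injective (by rw [map_mul, h, map_one])))
    exact ⟨e.symm c, e.injective (by simpa using h1), fun h => h2 (by simpa using congrArg e h)⟩

namespace Data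

variable [Finite G] (d : Data J T) (hs : Small T) (S : Sylow 2 G)
  (hJS : J ∈ (S : Subgroup G)) (hSJ : ∀ x ∈ (S : Subgroup G), x * J = J * x)
  (hi : ∀ H : Subgroup G, H.index ≠ 2)
include d hs hSJ

theorem sq_eq_one {x : G} (hx : x ∈ (S : Subgroup G)) : x * x = 1 := by
  obtain ⟨k, hk⟩ := S.isPGroup' ⟨x, hx⟩
  have hk' : x ^ 2 ^ k = 1 := by simpa using congrArg Subtype.val hk
  have key : ∀ y ∈ T, y ^ 2 ^ (k + 1) = 1 → y * y = 1 := fun y hy h => by
    have h30 : y ^ 30 = 1 := by simpa using congrArg Subtype.val (hs.thirty ⟨y, hy⟩)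
    have hd : orderOf y ∣ Nat.gcd (2 ^ (k + 1)) 30 :=
      Nat.dvd_gcd (orderOf_dvd_of_pow_eq_one h) (orderOf_dvd_of_pow_eq_one h30)
    have hg : Nat.gcd (2 ^ (k + 1)) 30 ∣ 2 := by
      have h15 : Nat.Coprime (2 ^ (k + 1)) 15 := Nat.Coprime.pow_left _ (by norm_num)
      rw [show 30 = 2 * 15 by norm_num, Nat.Coprime.gcd_mul_right_cancel_right (k := 15) _ h15.symm]
      exact Nat.gcd_dvd_right _ _
    rw [← pow_two]
    exact orderOf_dvd_iff_pow_eq_one.1 (hd.trans hg)
  rcases d.cover x (hSJ x hx) with h | h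
  · exact key x h (by rw [pow_succ, pow_mul, hk', one_pow])
  · have := key _ h (by
      rw [(Commute.mul_pow (hSJ x hx).symm _), pow_succ, pow_mul x, hk', one_pow, mul_one, mul_comm,
        pow_mul, pow_two J, d.mul_self, one_pow])
    rwa [mul_assoc, ← mul_assoc x, hSJ x hx, mul_assoc J x, ← mul_assoc J, d.mul_self, one_mul] at this

theorem sylow_comm {a b : G} (ha : a ∈ (S : Subgroup G)) (hb : b ∈ (S : Subgroup G)) : a * b = b * a := by
  have hab := d.sq_eq_one hs S hSJ (mul_mem ha hb)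
  have ha2 := d.sq_eq_one hs S hSJ ha
  have hb2 := d.sq_eq_one hs S hSJ hb
  calc a * b = a * (a * b * (a * b)) * b := by rw [hab, mul_one]
    _ = a * a * (b * a) * (b * b) := by group
    _ = b * a := by rw [ha2, hb2, one_mul, mul_one]

theorem sylow_isMulCommutative : IsMulCommutative (S : Subgroup G) :=
  ⟨⟨fun a b => Subtype.ext (d.sylow_comm hs S hSJ a.2 b.2)⟩⟩

include hi

theorem conj_sylow {a b : G} (ha : a ∈ (S : Subgroup G)) (ha1 : a ≠ 1) (hb : b ∈ (S : Subgroup G))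
    (hb1 : b ≠ 1) : IsConj a b := by
  have key : ∀ z, z ∈ (S : Subgroup G) → z ≠ 1 →
      ∃ w, w ∈ T ∧ w * w = 1 ∧ w ≠ 1 ∧ IsConj z w := fun z hz hz1 => by
    by_cases hzT : z ∈ T
    · exact ⟨z, hzT, d.sq_eq_one hs S hSJ hz, hz1, IsConj.refl z⟩
    · obtain ⟨g, -, hgS, hgT⟩ := d.exists_conj_mem hi S hSJ hz (d.sq_eq_one hs S hSJ hz)
        (fun x hx => d.sylow_comm hs S hSJ hx hz) hzT
      refine ⟨_, hgT, d.sq_eq_one hs S hSJ hgS, fun h => hz1 ?_, isConj_iff.2 ⟨g⁻¹, by rw [inv_inv]⟩⟩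
      calc z = g * (g⁻¹ * z * g) * g⁻¹ := by group
        _ = 1 := by rw [h]; group
  obtain ⟨u, huT, hu2, hu1, hau⟩ := key a ha ha1
  obtain ⟨w, hwT, hw2, hw1, hbw⟩ := key b hb hb1
  obtain ⟨c, hc⟩ := hs.conj ⟨u, huT⟩ ⟨w, hwT⟩ (Subtype.ext hu2) (fun h => hu1 (congrArg Subtype.val h))
    (Subtype.ext hw2) (fun h => hw1 (congrArg Subtype.val h))
  exact hau.trans ((isConj_iff.2 ⟨(c : G), congrArg Subtype.val hc⟩).trans hbw.symm)

include hJS

theorem conj_J {u : G} (hu : orderOf u = 2) : IsConj J u := by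
  haveI : Fact (Nat.Prime 2) := ⟨Nat.prime_two⟩
  obtain ⟨R, hR⟩ := (IsPGroup.of_card (n := 1) (G := zpowers u)
    (by rw [Nat.card_zpowers, hu, pow_one])).exists_le_sylow
  obtain ⟨c, hc⟩ := MulAction.exists_smul_eq G R S
  have h : c * u * c⁻¹ ∈ (S : Subgroup G) := by
    rw [← hc, Sylow.coe_subgroup_smul, mem_pointwise_smul_iff_inv_smul_mem]
    simpa [mul_assoc] using hR (mem_zpowers u)
  refine (d.conj_sylow hs S hSJ hi hJS (fun h => d.nmem (h ▸ T.one_mem)) h ?_).trans
    (isConj_iff.2 ⟨c⁻¹, by group⟩)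
  intro h1
  rw [conj_eq_one_iff.1 h1, orderOf_one] at hu
  omega

omit hJS hi

theorem eq_one_of_odd {N : Subgroup G} [N.Normal] (hN : Odd (Nat.card N)) {x : G} (hx : x ∈ N)
    (hxJ : x * J = J * x) : x = 1 := by
  haveI : Fact (Nat.Prime 2) := ⟨Nat.prime_two⟩
  have hodd : ∀ y ∈ N, Odd (orderOf y) := fun y hy => hN.of_dvd_nat (Subgroup.orderOf_dvd_natCard N hy)
  have hxT : x ∈ T := by
    set w : centralizer ({J} : Set G) := ⟨x, mem_centralizer_singleton_iff.2 hxJ⟩
    refine d.proj_eq_one.1 (show d.proj w = 1 from orderOf_eq_one_iff.1 ?_)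
    refine Nat.Coprime.eq_one_of_dvd ?_ (orderOf_map_dvd d.proj w)
    rw [Subgroup.orderOf_mk]
    refine Nat.Coprime.coprime_dvd_left (orderOf_dvd_natCard (d.proj w)) ?_
    simpa using Nat.coprime_two_left.2 (hodd x hx)
  by_cases h2 : x * x = 1
  · have h1 : orderOf x ∣ 2 := orderOf_dvd_of_pow_eq_one (by rw [pow_two, h2])
    exact orderOf_eq_one_iff.1 (((Nat.coprime_two_right.2 (hodd x hx))).eq_one_of_dvd h1)
  · exfalso
    obtain ⟨c, hc, hne⟩ := hs.odd ⟨x, hxT⟩ (fun h => h2 (congrArg Subtype.val h))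
    have hmem : x * ((c : G) * (x * x) * (c : G)⁻¹) ∈ N := mul_mem hx (‹N.Normal›.conj_mem _ (mul_mem hx hx) c)
    have h1 : orderOf (x * ((c : G) * (x * x) * (c : G)⁻¹)) ∣ 2 :=
      orderOf_dvd_of_pow_eq_one (by rw [pow_two]; exact congrArg Subtype.val hc)
    exact hne (Subtype.ext (orderOf_eq_one_iff.1
      ((Nat.coprime_two_right.2 (hodd _ hmem)).eq_one_of_dvd h1)))

include hJS hi

/-- No normal subgroup of odd order. -/
theorem odd_normal_eq_bot {N : Subgroup G} [N.Normal] (hN : Odd (Nat.card N)) : N = ⊥ := by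
  classical
  rw [eq_bot_iff]
  intro x hx
  rw [mem_bot]
  have hJ1 : J ≠ 1 := fun h => d.nmem (h ▸ T.one_mem)
  have inv : ∀ u : G, orderOf u = 2 → ∀ y ∈ N, u * y * u⁻¹ = y⁻¹ := by
    intro u hu y hy
    let φ : N →* N := (MulAut.conjNormal u).toMonoidHom
    have hfree : MonoidHom.FixedPointFree φ := by
      intro w hw
      have hw' : u * (w : G) * u⁻¹ = w := congrArg Subtype.val hw
      obtain ⟨g, hg⟩ := isConj_iff.1 (d.conj_J hs S hJS hSJ hi hu)
      have h1 : (g⁻¹ * (w : G) * g) * J = J * (g⁻¹ * (w : G) * g) := by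
        have hwu : (w : G) * u = u * w := (mul_inv_eq_iff_eq_mul.1 hw').symm
        calc (g⁻¹ * (w : G) * g) * J = g⁻¹ * ((w : G) * (g * J * g⁻¹)) * g := by group
          _ = g⁻¹ * ((g * J * g⁻¹) * w) * g := by rw [hg, hwu]
          _ = _ := by group
      have h2 := d.eq_one_of_odd hs S hSJ hN (by simpa using ‹N.Normal›.conj_mem w w.2 g⁻¹) h1
      exact Subtype.ext (by
        calc (w : G) = g * (g⁻¹ * w * g) * g⁻¹ := by group
          _ = 1 := by rw [h2]; group)
    have hinvol : Function.Involutive φ := fun w => Subtype.ext (by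
      show u * (u * (w : G) * u⁻¹) * u⁻¹ = w
      have huu : u * u = 1 := by rw [← pow_two, ← hu, pow_orderOf_eq_one]
      rw [show u * (u * (w : G) * u⁻¹) * u⁻¹ = (u * u) * w * (u * u)⁻¹ by group, huu]
      group)
    exact congrArg Subtype.val (congrFun (hfree.coe_eq_inv_of_involutive hinvol) ⟨y, hy⟩)
  obtain ⟨g, -, hgS, hgT⟩ := d.exists_conj_mem hi S hSJ hJS d.mul_self hSJ d.nmem
  set v := g⁻¹ * J * g
  have hv : orderOf v = 2 := orderOf_eq_prime (by rw [pow_two]; exact d.sq_eq_one hs S hSJ hgS) (fun h => hJ1 (by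
    calc J = g * v * g⁻¹ := by rw [show v = g⁻¹ * J * g from rfl]; group
      _ = 1 := by rw [h]; group))
  have hJv : orderOf (J * v) = 2 := orderOf_eq_prime
    (by rw [pow_two]; exact d.sq_eq_one hs S hSJ (mul_mem hJS hgS)) (fun h => d.nmem (by
      rw [mul_eq_one_iff_eq_inv.1 h]; exact T.inv_mem hgT))
  have h1 := inv _ d.ord _ hx
  have h2 := inv _ hv _ hx
  have h3 := inv _ hJv _ hx
  have h4 : x = x⁻¹ := by
    rw [← h3, show J * v * x * (J * v)⁻¹ = J * (v * x * v⁻¹) * J⁻¹ by group, h2]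
    have := congrArg Inv.inv h1
    rw [inv_inv] at this
    conv_lhs => rw [← this]
    group
  have h5 : orderOf x ∣ 2 := orderOf_dvd_of_pow_eq_one (by rw [pow_two]; nth_rewrite 2 [h4]; rw [mul_inv_cancel])
  exact orderOf_eq_one_iff.1
    ((Nat.coprime_two_right.2 (hN.of_dvd_nat (Subgroup.orderOf_dvd_natCard N hx))).eq_one_of_dvd h5)

/-- A nontrivial normal subgroup contains every involution. -/
theorem involution_mem {N : Subgroup G} [N.Normal] (hN : N ≠ ⊥) {u : G} (hu : orderOf u = 2) : u ∈ N := by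
  haveI : Fact (Nat.Prime 2) := ⟨Nat.prime_two⟩
  have h2 : 2 ∣ Nat.card N := by
    by_contra h
    exact hN (d.odd_normal_eq_bot hs S hJS hSJ hi (Nat.odd_iff.2 (by omega)))
  obtain ⟨w, hw⟩ := exists_prime_orderOf_dvd_card' 2 h2
  obtain ⟨c, hc⟩ := isConj_iff.1 (((d.conj_J hs S hJS hSJ hi ((Subgroup.orderOf_coe w).trans hw)).symm).trans
    (d.conj_J hs S hJS hSJ hi hu))
  exact hc ▸ ‹N.Normal›.conj_mem _ w.2 c

end Data

end Cfsg.Agent.CentTwoAlt
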