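import Cfsg.Agent.Lib.CentTwoAlt.Core
import Cfsg.Agent.Lib.JankoUnique.Main
import Cfsg.Agent.Lib.PSL2.Centralizers
import Cfsg.Agent.Lib.PSL2.Existence
import Cfsg.Agent.S3188
import Cfsg.Agent.S4337
import Cfsg.Agent.S0813
import Cfsg.Agent.Lib.PSL2.Overgroups

/-!
# Identification for `C(J) = ⟨J⟩ × A_m`, `m = 4, 5` (main results: `Data.four`, `Data.five`)
-/

set_option autoImplicit false

namespace Cfsg.Agent.CentTwoAlt

open Subgroup

variable {G : Type*} [Group G] [Finite G] {J : G} {T : Subgroup G}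

namespace Data

variable (d : Data J T)
include d

open Classical in
/-- The projection of `C(J)` onto `T`. -/
noncomputable def projT : centralizer ({J} : Set G) →* T where
  toFun x := if h : (x : G) ∈ T then ⟨x, h⟩
    else ⟨J * x, (d.cover _ (mem_centralizer_singleton_iff.1 x.2)).resolve_left h⟩
  map_one' := Subtype.ext (by simp [T.one_mem])
  map_mul' a b := by
    have ha := d.centralizer_comm a.2
    have hb := d.centralizer_comm b.2
    apply Subtype.ext
    by_cases h1 : (a : G) ∈ T <;> by_cases h2 : (b : G) ∈ T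
    · simp [h1, h2, T.mul_mem h1 h2]
    · simp only [Subgroup.coe_mul, dif_pos h1, dif_neg h2, dif_neg (fun h => h2 ((T.mul_mem_cancel_left h1).1 h))]
      rw [← mul_assoc, ← ha, mul_assoc]
    · simp only [Subgroup.coe_mul, dif_pos h2, dif_neg h1, dif_neg (fun h => h1 ((T.mul_mem_cancel_right h2).1 h))]
      rw [mul_assoc]
    · have e : J * (a : G) * (J * b) = a * b := by
        rw [← ha, mul_assoc, ← mul_assoc J, d.mul_self, one_mul]
      have h3 : (a : G) * b ∈ T :=
        e ▸ T.mul_mem ((d.cover _ ha).resolve_left h1) ((d.cover _ hb).resolve_left h2)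
      simp only [Subgroup.coe_mul, dif_pos h3, dif_neg h1, dif_neg h2]
      exact e.symm

omit [Finite G] in
theorem centralizer_equiv :
    Nonempty (centralizer ({J} : Set G) ≃* Multiplicative (ZMod 2) × T) := by
  classical
  refine ⟨MulEquiv.ofBijective (d.proj.prod d.projT)
    ⟨(MonoidHom.ker_eq_bot_iff _).1 (eq_bot_iff.2 fun x hx => ?_), fun p => ?_⟩⟩
  · obtain ⟨h1, h2⟩ := Prod.mk.injEq _ _ _ _ ▸ (show (d.proj x, d.projT x) = (1, 1) from hx)
    have hT := d.proj_eq_one.1 h1
    have h3 : (d.projT x : G) = x := by simp [projT, hT]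
    rw [h2] at h3
    exact mem_bot.2 (Subtype.ext h3.symm)
  · obtain ⟨a, t⟩ := p
    rcases (by decide : ∀ a : Multiplicative (ZMod 2), a = 1 ∨ a = Multiplicative.ofAdd 1) a with rfl | rfl
    · exact ⟨⟨t, mem_centralizer_singleton_iff.2 (d.comm t t.2)⟩, Prod.ext (d.proj_eq_one.2 t.2)
        (Subtype.ext (by simp [projT]))⟩
    · have hmem : J * (t : G) ∈ centralizer ({J} : Set G) :=
        mem_centralizer_singleton_iff.2 (by rw [mul_assoc, d.comm t t.2])
      have hn : J * (t : G) ∉ T := fun h => d.nmem ((T.mul_mem_cancel_right t.2).1 h)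
      refine ⟨⟨J * t, hmem⟩, Prod.ext (if_neg hn) (Subtype.ext ?_)⟩
      show ((d.projT ⟨J * t, hmem⟩ : T) : G) = t
      simp [projT, hn, ← mul_assoc, d.mul_self]

theorem five (e : T ≃* alternatingGroup (Fin 5)) (S : Sylow 2 G) (hJS : J ∈ (S : Subgroup G))
    (hSJ : ∀ x ∈ (S : Subgroup G), x * J = J * x) (hi : ∀ H : Subgroup G, H.index ≠ 2) :
    Cfsg.Spor.IsoJ1 G := by
  have hs : Small T := small_five.of_equiv e
  have hJ1 : J ≠ 1 := fun h => d.nmem (h ▸ T.one_mem)
  set L : Subgroup G := normalClosure ({J} : Set G) with hL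
  have hJL : J ∈ L := subset_normalClosure rfl
  have hinvL : ∀ u : G, orderOf u = 2 → u ∈ L := fun u hu =>
    d.involution_mem hs S hJS hSJ hi (fun h => hJ1 (mem_bot.1 (h ▸ hJL))) hu
  obtain ⟨g, -, hgS, hgT⟩ := d.exists_conj_mem hi S hSJ hJS d.mul_self hSJ d.nmem
  haveI : IsSimpleGroup T := e.isSimpleGroup_congr.2 inferInstance
  have hTL : T ≤ L := by
    rcases (inferInstance : (L.subgroupOf T).Normal).eq_bot_or_eq_top with h | h
    · exfalso
      have h1 : (⟨_, hgT⟩ : T) ∈ L.subgroupOf T := by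
        have := normalClosure_normal.conj_mem J hJL g⁻¹
        rw [inv_inv] at this
        exact mem_subgroupOf.2 this
      rw [h, mem_bot] at h1
      exact hJ1 (by
        calc J = g * (g⁻¹ * J * g) * g⁻¹ := by group
          _ = 1 := by rw [show g⁻¹ * J * g = 1 from congrArg Subtype.val h1]; group)
    · exact subgroupOf_eq_top.1 h
  have hSL : (S : Subgroup G) ≤ L := fun s hs' => by
    rcases eq_or_ne s 1 with rfl | h
    · exact one_mem L
    · exact hinvL s (orderOf_eq_prime (by rw [pow_two]; exact d.sq_eq_one hs S hSJ hs') h)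
  let J' : L := ⟨J, hJL⟩
  let T' : Subgroup L := T.subgroupOf L
  have d' : Data J' T' :=
    { ord := (Subgroup.orderOf_mk J hJL).trans d.ord
      comm := fun x hx => Subtype.ext (d.comm x hx)
      nmem := d.nmem
      cover := fun x hx => d.cover x (congrArg Subtype.val hx) }
  let e' : T' ≃* alternatingGroup (Fin 5) := (subgroupOfEquivOfLe hTL).trans e
  have hs' : Small T' := small_five.of_equiv e'
  let S' : Sylow 2 L := S.subtype hSL
  have hiL : ∀ H : Subgroup L, H.index ≠ 2 := by
    intro H hH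
    set H' := H.map L.subtype with hH'
    have hne : H'.normalCore = ⊥ := by
      by_contra h
      have h1 := d.involution_mem hs S hJS hSJ hi h d.ord
      have h2 : L ≤ H' := (normalClosure_le_normal (Set.singleton_subset_iff.2 h1)).trans (normalCore_le H')
      have h3 : H = ⊤ := eq_top_iff.2 fun x _ => by
        obtain ⟨y, hy, hyx⟩ := h2 x.2
        exact (Subtype.ext hyx : y = x) ▸ hy
      rw [h3, index_top] at hH
      omega
    obtain ⟨y, hy⟩ : ∃ y : alternatingGroup (Fin 5), y * y ≠ 1 :=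
      ⟨⟨Equiv.swap 0 1 * Equiv.swap 1 2, Equiv.Perm.mem_alternatingGroup.2 (by decide)⟩, by decide⟩
    refine hy (e.symm.injective ?_)
    have hsq : ∀ l ∈ L, l * l ∈ H'.normalCore := fun l hl g => by
      have hc : g * l * g⁻¹ ∈ L := normalClosure_normal.conj_mem l hl g
      refine ⟨⟨_, hc⟩ * ⟨_, hc⟩, mul_self_mem_of_index_two hH _, ?_⟩
      show g * l * g⁻¹ * (g * l * g⁻¹) = g * (l * l) * g⁻¹
      group
    have := hsq _ (hTL (e.symm y).2)
    rw [hne, mem_bot] at this
    rw [map_mul, map_one]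
    exact Subtype.ext this
  have hSJ' : ∀ x ∈ (S' : Subgroup L), x * J' = J' * x := fun x hx => Subtype.ext (hSJ x hx)
  haveI : Nontrivial L := ⟨⟨J', 1, fun h => hJ1 (congrArg Subtype.val h)⟩⟩
  haveI : IsSimpleGroup L := by
    refine ⟨fun K hK => ?_⟩
    rcases eq_or_ne K ⊥ with h | h
    · exact Or.inl h
    · right
      haveI := hK
      have hmem : ∀ u : L, orderOf u = 2 → u ∈ K := fun u hu =>
        d'.involution_mem hs' S' hJS hSJ' hiL h hu
      have hle : L ≤ K.map L.subtype := by
        refine (le_of_eq (rfl : L = Subgroup.closure (Group.conjugatesOfSet ({J} : Set G)))).trans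
          ((closure_le _).2 fun u hu => ?_)
        obtain ⟨a, ha, hc⟩ := Group.mem_conjugatesOfSet_iff.1 hu
        obtain rfl : a = J := ha
        have huord : orderOf u = 2 := by
          obtain ⟨c, rfl⟩ := isConj_iff.1 hc
          rw [show c * a * c⁻¹ = MulAut.conj c a by simp, MulEquiv.orderOf_eq, d.ord]
        exact ⟨⟨u, hinvL u huord⟩, hmem _ ((Subgroup.orderOf_mk u _).trans huord), rfl⟩
      refine eq_top_iff.2 fun x _ => ?_
      obtain ⟨y, hy, hyx⟩ := hle x.2
      exact (Subtype.ext hyx : y = x) ▸ hy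
  obtain ⟨f⟩ := d'.centralizer_equiv
  obtain ⟨i⟩ := JankoUnique.isoJ1 (t := J') ⟨d'.ord, S', hJS, hSJ'⟩
    (f.trans (MulEquiv.prodCongr (MulEquiv.refl _) e'))
  have htop : L = ⊤ := by
    rw [eq_top_iff]
    intro x _
    have hxJ : x * J * x⁻¹ ∈ L := normalClosure_normal.conj_mem J hJL x
    obtain ⟨l, hl⟩ := isConj_iff.1 (d'.conj_J hs' S' hJS hSJ' hiL (u := ⟨_, hxJ⟩) (by
      rw [Subgroup.orderOf_mk, show x * J * x⁻¹ = MulAut.conj x J by simp, MulEquiv.orderOf_eq, d.ord]))
    have hl' : (l : G) * J * (l : G)⁻¹ = x * J * x⁻¹ := congrArg Subtype.val hl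
    have hc : ((l : G)⁻¹ * x) * J = J * ((l : G)⁻¹ * x) := by
      calc ((l : G)⁻¹ * x) * J = (l : G)⁻¹ * (x * J * x⁻¹) * x := by group
        _ = J * ((l : G)⁻¹ * x) := by rw [← hl']; group
    have hmem : (l : G)⁻¹ * x ∈ L := by
      rcases d.cover _ hc with h | h
      · exact hTL h
      · have := L.mul_mem hJL (hTL h)
        rwa [← mul_assoc, d.mul_self, one_mul] at this
    simpa using L.mul_mem l.2 hmem
  exact ⟨((MulEquiv.subgroupCongr htop).trans Subgroup.topEquiv).symm.trans i⟩

theorem four (e : T ≃* alternatingGroup (Fin 4)) (S : Sylow 2 G) (hJS : J ∈ (S : Subgroup G))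
    (hSJ : ∀ x ∈ (S : Subgroup G), x * J = J * x) (hi : ∀ H : Subgroup G, H.index ≠ 2)
    (hns : ¬ Group.IsSolvable G) :
    ∃ (F : Type) (_ : Field F) (_ : Fintype F), Fintype.card F = 8 ∧
      Nonempty (G ≃* MulAut (Matrix.ProjectiveSpecialLinearGroup (Fin 2) F)) := by
  haveI : Fact (Nat.Prime 2) := ⟨Nat.prime_two⟩
  have hs : Small T := small_four.of_equiv e
  obtain ⟨ec⟩ := d.centralizer_equiv
  have hCcard : Nat.card (centralizer ({J} : Set G)) = 24 := by
    rw [Nat.card_congr ec.toEquiv, Nat.card_prod, Nat.card_congr e.toEquiv, nat_card_alternatingGroup]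
    simp [Nat.factorial]
  have hsolC : Group.IsSolvable (centralizer ({J} : Set G)) := by
    haveI : Group.IsSolvable (Equiv.Perm (Fin 4)) := S4337.perm4_solvable
    haveI : Group.IsSolvable T :=
      Group.isSolvable_of_isSolvable_injective (f := (alternatingGroup (Fin 4)).subtype.comp e.toMonoidHom)
        (Subtype.val_injective.comp e.injective)
    exact Group.isSolvable_of_surjective (f := ec.symm.toMonoidHom) ec.symm.surjective
  have hCsol : ∀ t : G, orderOf t = 2 → Group.IsSolvable ↥(centralizer ({t} : Set G)) := by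
    intro t ht
    obtain ⟨g, hg⟩ := isConj_iff.1 (d.conj_J hs S hJS hSJ hi ht)
    subst hg
    let f : centralizer ({J} : Set G) →* centralizer ({g * J * g⁻¹} : Set G) :=
      ((MulAut.conj g).toMonoidHom.comp (centralizer ({J} : Set G)).subtype).codRestrict _ fun x => by
        refine mem_centralizer_singleton_iff.2 ?_
        show g * (x : G) * g⁻¹ * (g * J * g⁻¹) = g * J * g⁻¹ * (g * x * g⁻¹)
        have h := mem_centralizer_singleton_iff.1 x.2
        calc g * (x : G) * g⁻¹ * (g * J * g⁻¹) = g * ((x : G) * J) * g⁻¹ := by group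
          _ = g * (J * x) * g⁻¹ := by rw [h]
          _ = g * J * g⁻¹ * (g * x * g⁻¹) := by group
    haveI := hsolC
    refine Group.isSolvable_of_surjective (f := f) fun y => ?_
    refine ⟨⟨g⁻¹ * (y : G) * g, mem_centralizer_singleton_iff.2 ?_⟩, Subtype.ext ?_⟩
    · have h := mem_centralizer_singleton_iff.1 y.2
      calc g⁻¹ * (y : G) * g * J = g⁻¹ * ((y : G) * (g * J * g⁻¹)) * g := by group
        _ = g⁻¹ * (g * J * g⁻¹ * y) * g := by rw [h]
        _ = J * (g⁻¹ * y * g) := by group
    · show g * (g⁻¹ * (y : G) * g) * g⁻¹ = y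
      group
  have hcomm := d.sylow_isMulCommutative hs S hSJ
  rcases S3188.result S hcomm hCsol with h | ⟨F, iF, iF', hF, N, hN, ⟨eN⟩, hcen⟩
  · exact absurd h hns
  haveI : (Cfsg.oddCore G).Normal := Cores.pPrimeCore_normal 2 G
  have hO : Cfsg.oddCore G = ⊥ := d.odd_normal_eq_bot hs S hJS hSJ hi
    (Nat.coprime_two_right.1 (Cores.coprime_card_pPrimeCore (G := G) 2))
  let q : G ⧸ Cfsg.oddCore G ≃* G := (QuotientGroup.quotientMulEquivOfEq hO).trans QuotientGroup.quotientBot
  set M := N.map q.toMonoidHom with hM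
  haveI hMn : M.Normal := hN.map _ q.surjective
  let eM : M ≃* Matrix.ProjectiveSpecialLinearGroup (Fin 2) F := (q.subgroupMap N).symm.trans eN
  have hMcen : centralizer (M : Set G) = ⊥ := by
    rw [eq_bot_iff]
    intro x hx
    have : q.symm x ∈ centralizer (N : Set (G ⧸ Cfsg.oddCore G)) := fun y hy => q.injective (by
      rw [map_mul, map_mul, MulEquiv.apply_symm_apply]
      exact hx _ ⟨y, hy, rfl⟩)
    rw [hcen, mem_bot] at this
    exact mem_bot.2 (by simpa using congrArg q this)
  have hM1 : M ≠ ⊥ := fun h => by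
    have hc : centralizer (M : Set G) = ⊤ := eq_top_iff.2 fun x _ y hy => by
      rw [h, SetLike.mem_coe, mem_bot] at hy
      rw [hy, mul_one, one_mul]
    rw [hMcen] at hc
    exact d.nmem ((mem_bot.1 (hc ▸ mem_top J : J ∈ (⊥ : Subgroup G))) ▸ T.one_mem)
  have hinvM : ∀ u : G, orderOf u = 2 → u ∈ M := fun u hu => d.involution_mem hs S hJS hSJ hi hM1 hu
  have hSM : (S : Subgroup G) ≤ M := fun s hs' => by
    rcases eq_or_ne s 1 with rfl | h
    · exact one_mem M
    · exact hinvM s (orderOf_eq_prime (by rw [pow_two]; exact d.sq_eq_one hs S hSJ hs') h)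
  have hS8 : Nat.card (S : Subgroup G) = 8 := by
    have hSC : (S : Subgroup G) ≤ centralizer ({J} : Set G) := fun x hx =>
      mem_centralizer_singleton_iff.2 (hSJ x hx)
    have h := (S.subtype hSC).card_eq_multiplicity
    rw [hCcard, Nat.factorization_def _ Nat.prime_two, show (24 : ℕ) = 2 ^ 3 * 3 by norm_num,
      padicValNat.mul (by norm_num) (by norm_num), padicValNat.prime_pow,
      padicValNat.eq_zero_of_not_dvd (by norm_num : ¬ 2 ∣ 3)] at h
    rw [← Nat.card_congr (subgroupOfEquivOfLe hSC).toEquiv]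
    simpa using h
  have hcardM := Nat.card_congr eM.toEquiv
  have h8 : 8 ∣ Nat.card M := hS8 ▸ card_dvd_of_le hSM
  have hmul := PSL2.card_psl_mul (F := F)
  rw [← hcardM, Nat.card_eq_fintype_card] at hmul
  rcases hF with ⟨hq, -⟩ | ⟨n, hn, hq⟩
  · exfalso
    set q := Fintype.card F with hqd
    obtain ⟨r, hr⟩ : ∃ r, q = 8 * r + q % 8 := ⟨q / 8, (Nat.div_add_mod q 8).symm⟩
    obtain ⟨k, hk⟩ := h8
    have hgcd : Nat.gcd 2 (q - 1) = 2 := Nat.gcd_eq_left (by omega)
    rw [hgcd, hk] at hmul
    rcases hq with h | h <;> rw [h] at hr <;> rw [hr] at hmul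
    · rw [show 8 * r + 3 - 1 = 2 * (4 * r + 1) by omega, show 8 * r + 3 + 1 = 4 * (2 * r + 1) by ring] at hmul
      have h2 : 2 * k = (8 * r + 3) * ((2 * r + 1) * (4 * r + 1)) := by linarith
      have h3 : Odd ((8 * r + 3) * ((2 * r + 1) * (4 * r + 1))) :=
        Odd.mul ⟨4 * r + 1, by ring⟩ (Odd.mul ⟨r, rfl⟩ ⟨2 * r, by ring⟩)
      exact (Nat.not_even_iff_odd.2 h3) ⟨k, by omega⟩
    · rw [show 8 * r + 5 - 1 = 4 * (2 * r + 1) by omega, show 8 * r + 5 + 1 = 2 * (4 * r + 3) by ring] at hmul
      have h2 : 2 * k = (8 * r + 5) * ((2 * r + 1) * (4 * r + 3)) := by linarith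
      have h3 : Odd ((8 * r + 5) * ((2 * r + 1) * (4 * r + 3))) :=
        Odd.mul ⟨4 * r + 2, by ring⟩ (Odd.mul ⟨r, rfl⟩ ⟨2 * r + 1, by ring⟩)
      exact (Nat.not_even_iff_odd.2 h3) ⟨k, by omega⟩
  · have hgcd : Nat.gcd 2 (Fintype.card F - 1) = 1 := by
      rw [hq]
      refine Nat.coprime_two_left.2 (Nat.odd_sub (Nat.one_le_two_pow) |>.2 ?_)
      simp [Nat.even_pow]
      omega
    rw [hgcd, one_mul] at hmul
    have hn3 : n = 3 := by
      have h2 : ¬ 2 ∣ (2 ^ n + 1) * (2 ^ n - 1) := by
        have : 2 ∣ 2 ^ n := dvd_pow_self 2 (by omega)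
        have h1 : 1 ≤ 2 ^ n := Nat.one_le_two_pow
        rw [Nat.prime_two.dvd_mul]
        omega
      have hMdvd : 2 ^ n ∣ Nat.card (S : Subgroup G) := by
        rw [S.card_eq_multiplicity]
        refine pow_dvd_pow 2 ((Nat.prime_two.pow_dvd_iff_le_factorization Nat.card_pos.ne').1 ?_)
        exact (hq ▸ hmul ▸ dvd_mul_right _ _ : 2 ^ n ∣ Nat.card M).trans (card_subgroup_dvd_card M)
      rw [hS8, show 8 = 2 ^ 3 by norm_num, Nat.pow_dvd_pow_iff_le_right one_lt_two] at hMdvd
      by_contra hne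
      have hn2 : n = 2 := by omega
      rw [hmul, hq, hn2] at h8
      norm_num at h8
    subst hn3
    have hq8 : Fintype.card F = 8 := by rw [hq]; norm_num
    refine ⟨F, iF, iF', hq8, ?_⟩
    have hM504 : Nat.card M = 504 := by rw [hmul, hq8]
    haveI : CharP F 2 := by
      obtain ⟨p, hp⟩ := CharP.exists F
      obtain ⟨k, hpp, hk⟩ := FiniteField.card F p
      have : p = 2 := by
        have h1 : p ∣ 2 ^ 3 := by rw [← hq, hk]; exact dvd_pow_self p k.ne_zero
        exact (Nat.prime_dvd_prime_iff_eq hpp Nat.prime_two).1 (hpp.dvd_of_dvd_pow h1)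
      exact this ▸ hp
    have hJM : J ∈ M := hinvM J d.ord
    have hinj : Function.Injective (MulAut.conjNormal (H := M)) := by
      refine (MonoidHom.ker_eq_bot_iff _).1 (eq_bot_iff.2 fun x hx => ?_)
      rw [← hMcen]
      intro y hy
      have h1 : x * y * x⁻¹ = y := congrArg Subtype.val (DFunLike.congr_fun hx (⟨y, hy⟩ : M))
      exact (mul_inv_eq_iff_eq_mul.1 h1).symm
    have hCM : Nat.card (M.subgroupOf (centralizer ({J} : Set G))) = 8 := by
      have hx : orderOf (eM ⟨J, hJM⟩) = 2 := by rw [MulEquiv.orderOf_eq, Subgroup.orderOf_mk, d.ord]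
      have h1 := PSL2.card_centralizer_char 2 hx
      rw [Nat.card_eq_fintype_card (α := F), hq8] at h1
      rw [← h1]
      refine Nat.card_congr
        { toFun := fun x => ⟨eM ⟨(x.1 : G), x.2⟩, mem_centralizer_singleton_iff.2 (by
            rw [← map_mul, ← map_mul]
            exact congrArg eM (Subtype.ext (mem_centralizer_singleton_iff.1 x.1.2)))⟩
          invFun := fun y => ⟨⟨(eM.symm y.1 : G), mem_centralizer_singleton_iff.2 (by
            have := congrArg eM.symm (mem_centralizer_singleton_iff.1 y.2)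
            rw [map_mul, map_mul, MulEquiv.symm_apply_apply] at this
            exact congrArg Subtype.val this)⟩, (eM.symm y.1).2⟩
          left_inv := fun x => by simp
          right_inv := fun y => Subtype.ext (by
            show eM ⟨(eM.symm y.1 : G), _⟩ = y.1
            exact eM.apply_symm_apply y.1) }
    have hidx : 3 ≤ M.index := by
      have h1 := card_mul_index (M.subgroupOf (centralizer ({J} : Set G)))
      rw [hCM, hCcard] at h1
      have h2 : M.relIndex (centralizer ({J} : Set G)) = 3 := by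
        show (M.subgroupOf _).index = 3
        omega
      have h3 : M.relIndex (centralizer ({J} : Set G)) ∣ M.index := relIndex_dvd_index_of_normal M _
      exact Nat.le_of_dvd (Nat.pos_of_ne_zero index_ne_zero_of_finite) (h2 ▸ h3)
    let eA : MulAut M ≃* MulAut (Matrix.ProjectiveSpecialLinearGroup (Fin 2) F) := MulAut.congr eM
    have hAut : Nat.card (MulAut M) = 1512 := by
      rw [Nat.card_congr eA.toEquiv, S0813.result 2 3 (by norm_num) hq 2 le_rfl (fun _ => by norm_num)]
      rw [show Nat.card (Matrix.ProjGenLinGroup (Fin 2) F) = 504 by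
        rw [show Nat.card (Matrix.ProjGenLinGroup (Fin 2) F) = _ from PSL2.card_pgl_eq (F := F)]
        rw [Nat.card_eq_fintype_card, hq8]]
      simp
    have hG : 1512 ≤ Nat.card G := by
      have := card_mul_index M
      rw [hM504] at this
      nlinarith [hidx]
    haveI : Finite (MulAut M) := Finite.of_injective DFunLike.coe DFunLike.coe_injective
    have hbij : Function.Bijective (MulAut.conjNormal (H := M)) :=
      (Nat.bijective_iff_injective_and_card _).2 ⟨hinj,
        le_antisymm (Nat.card_le_card_of_injective _ hinj) (hAut.le.trans hG)⟩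
    exact ⟨(MulEquiv.ofBijective _ hbij).trans eA⟩

end Data

end Cfsg.Agent.CentTwoAlt
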