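import Cfsg.Agent.Lib.TwoTransfer.CenterInvolution
import Cfsg.Agent.Lib.TwoFusion.Transfer

/-!
# Transfer of a central involution with controlled images under `N(S)`

`exists_index_two`: an involution `z ∈ Z(S)` outside the kernel of a homomorphism `ψ` of `S`, whose
conjugates by `N(S)` have the same image, yields a subgroup of index 2.
-/

set_option autoImplicit false

namespace Cfsg.Agent.CentTwoAlt

open Subgroup MulAction

variable {G : Type*} [Group G] [Finite G]

theorem transfer_ne_one {A : Type*} [CommGroup A] (S : Sylow 2 G) (ψ : (S : Subgroup G) →* A)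
    (z : (S : Subgroup G)) (hz2 : z ^ 2 = 1) (hzc : z ∈ center (S : Subgroup G)) (hψ : ψ z ≠ 1)
    (hN : ∀ g ∈ normalizer ((S : Subgroup G) : Set G), ∀ h : g⁻¹ * (z : G) * g ∈ (S : Subgroup G),
      ψ ⟨_, h⟩ = ψ z) :
    MonoidHom.transfer ψ (z : G) ≠ 1 := by
  classical
  haveI : Fintype (G ⧸ (S : Subgroup G)) := Fintype.ofFinite _
  have hz : (z : G) ^ 2 = 1 := by rw [← SubmonoidClass.coe_pow, hz2]; rfl
  let f : G ⧸ (S : Subgroup G) → A := fun x =>
    if h : x.out⁻¹ * (z : G) * x.out ∈ (S : Subgroup G) then ψ ⟨_, h⟩ else 1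
  have hf1 : ∀ x, ¬ (z : G) • x = x → f x = 1 := by
    intro x hx
    apply dif_neg
    intro h
    exact hx (by simpa [QuotientGroup.out_eq'] using (TwoTransfer.mk_fixed_iff (z : G) x.out).mpr h)
  have hf : ∀ (g : G) (h : g⁻¹ * (z : G) * g ∈ (S : Subgroup G)),
      f (g : G ⧸ (S : Subgroup G)) = ψ ⟨_, h⟩ := by
    intro g h
    obtain ⟨u, hu⟩ := QuotientGroup.mk_out_eq_mul (S : Subgroup G) g
    have h' : (g * (u : G))⁻¹ * (z : G) * (g * (u : G)) ∈ (S : Subgroup G) := by
      have := (S : Subgroup G).mul_mem ((S : Subgroup G).mul_mem ((S : Subgroup G).inv_mem u.2) h) u.2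
      simpa [mul_assoc] using this
    have h'' : (g : G ⧸ (S : Subgroup G)).out⁻¹ * (z : G) * (g : G ⧸ (S : Subgroup G)).out ∈
        (S : Subgroup G) := by rw [hu]; exact h'
    simp only [f]
    rw [dif_pos h'']
    have : (⟨_, h''⟩ : (S : Subgroup G)) = u⁻¹ * ⟨_, h⟩ * u := by
      apply Subtype.ext
      show (g : G ⧸ (S : Subgroup G)).out⁻¹ * (z : G) * (g : G ⧸ (S : Subgroup G)).out =
        (u : G)⁻¹ * (g⁻¹ * z * g) * u
      rw [hu]; group
    rw [this, map_mul, map_mul, map_inv, mul_comm, mul_inv_cancel_left]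
  have hf2 : ∀ x, f x ^ 2 = 1 := by
    intro x
    simp only [f]
    split_ifs with h
    · rw [← map_pow]
      convert map_one ψ
      apply Subtype.ext
      show (x.out⁻¹ * (z : G) * x.out) ^ 2 = 1
      calc (x.out⁻¹ * (z : G) * x.out) ^ 2 = x.out⁻¹ * (z : G) ^ 2 * x.out := by
            rw [pow_two, pow_two]; group
        _ = 1 := by rw [hz]; group
    · exact one_pow 2
  have hfinv : ∀ (s : (S : Subgroup G)) (x : G ⧸ (S : Subgroup G)), f (s • x) = f x := by
    intro s x
    induction x using QuotientGroup.induction_on with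
    | H g =>
      have hs : (s : G) * (z : G) = (z : G) * (s : G) :=
        congrArg Subtype.val (Subgroup.mem_center_iff.mp hzc s)
      have e : ((s : G) * g)⁻¹ * (z : G) * ((s : G) * g) = g⁻¹ * (z : G) * g := by
        calc ((s : G) * g)⁻¹ * (z : G) * ((s : G) * g) = g⁻¹ * (s : G)⁻¹ * ((z : G) * s) * g := by
              group
          _ = g⁻¹ * (s : G)⁻¹ * ((s : G) * z) * g := by rw [hs]
          _ = _ := by group
      show f (((s : G) * g : G) : G ⧸ (S : Subgroup G)) = f (g : G ⧸ (S : Subgroup G))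
      by_cases h : g⁻¹ * (z : G) * g ∈ (S : Subgroup G)
      · rw [hf g h, hf _ (e.symm ▸ h)]
        congr 1
        exact Subtype.ext e
      · rw [hf1 _ (fun hh => h ((TwoTransfer.mk_fixed_iff _ _).mp hh)),
          hf1 _ (fun hh => h (e ▸ (TwoTransfer.mk_fixed_iff _ _).mp hh))]
  rw [TwoTransfer.prod_fixed_eq_transfer ψ (z : G) hz f hf1 hf,
    TwoTransfer.prod_orbit_even (P := (S : Subgroup G)) S.isPGroup' f hfinv hf2,
    Finset.prod_congr rfl (g := fun _ => ψ z) (fun x hx => ?_), Finset.prod_const]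
  · set c := (Finset.univ.filter (· ∈ fixedPoints (S : Subgroup G) (G ⧸ (S : Subgroup G)))).card with hc
    have hodd : c % 2 = 1 := by
      have h1 := IsPGroup.card_modEq_card_fixedPoints (p := 2) S.isPGroup' (G ⧸ (S : Subgroup G))
      have h2 : Nat.card (fixedPoints (S : Subgroup G) (G ⧸ (S : Subgroup G))) = c := by
        rw [hc, Nat.card_eq_fintype_card]
        exact Fintype.card_of_subtype _ (fun x => by simp)
      have h3 : ¬ 2 ∣ Nat.card (G ⧸ (S : Subgroup G)) := S.not_dvd_index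
      rw [h2] at h1
      have h4 : Nat.card (G ⧸ (S : Subgroup G)) % 2 = c % 2 := h1
      omega
    have hψ2 : ψ z ^ 2 = 1 := by rw [← map_pow, hz2, map_one]
    rw [← Nat.div_add_mod c 2, pow_add, pow_mul, hψ2, one_pow, one_mul, hodd, pow_one]
    exact hψ
  · induction x using QuotientGroup.induction_on with
    | H g =>
      have hfix := (Finset.mem_filter.mp hx).2
      rw [Sylow.mem_fixedPoints_mul_left_cosets_iff_mem_normalizer] at hfix
      have h : g⁻¹ * (z : G) * g ∈ (S : Subgroup G) := by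
        have h1 := (Subgroup.mem_normalizer_iff.1 (inv_mem hfix) (z : G)).1 z.2
        simpa using h1
      rw [hf g h]
      exact hN g hfix h

theorem exists_index_two {A : Type*} [CommGroup A] [Finite A] (hA : IsPGroup 2 A)
    (S : Sylow 2 G) (ψ : (S : Subgroup G) →* A) (z : (S : Subgroup G)) (hz2 : z ^ 2 = 1)
    (hzc : z ∈ center (S : Subgroup G)) (hψ : ψ z ≠ 1)
    (hN : ∀ g ∈ normalizer ((S : Subgroup G) : Set G), ∀ h : g⁻¹ * (z : G) * g ∈ (S : Subgroup G),
      ψ ⟨_, h⟩ = ψ z) :
    ∃ K : Subgroup G, K.index = 2 := by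
  refine TwoFusion.exists_index_two_of_hom hA (MonoidHom.transfer ψ) fun h => ?_
  exact transfer_ne_one S ψ z hz2 hzc hψ hN (by rw [h]; rfl)

end Cfsg.Agent.CentTwoAlt
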